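import Mathlib
import Cfsg.Agent.ThreeTrans.SU32
import Cfsg.Agent.CosetCert.Basic

/-!
Four by four matrices over the field with four elements as natural numbers, multiplied one
after another so that the kernel keeps every intermediate product as a numeral.
-/

namespace Cfsg.Agent.CosetCert.Sp44

open Cfsg.Agent.ThreeTrans.SU32

/-- The coordinates. -/
abbrev Idx : Type := Fin 2 ⊕ Fin 2

/-- The field element of a digit. -/
def f4Of : Nat → F4
  | 0 => .o
  | 1 => .e
  | 2 => .w
  | _ => .w'

/-- The digit of a field element. -/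
def f4To : F4 → Nat
  | .o => 0
  | .e => 1
  | .w => 2
  | .w' => 3

theorem f4Of_to (a : F4) : f4Of (f4To a) = a := by cases a <;> rfl

theorem f4To_lt (a : F4) : f4To a < 4 := by cases a <;> decide

/-- The position of a coordinate. -/
def pos : Idx → Nat
  | .inl i => i.val
  | .inr i => 2 + i.val

/-- Prepend a digit. -/
def cons4 (a b : Nat) : Nat := a + 4 * b

theorem cons4_zero {a : Nat} (b : Nat) (ha : a < 4) : cons4 a b % 4 = a := by
  unfold cons4; rw [Nat.add_mul_mod_self_left, Nat.mod_eq_of_lt ha]

theorem cons4_succ {a : Nat} (b k : Nat) (ha : a < 4) :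
    cons4 a b / 4 ^ (k + 1) % 4 = b / 4 ^ k % 4 := by
  unfold cons4
  rw [pow_succ', ← Nat.div_div_eq_div_mul, Nat.add_mul_div_left _ _ (by norm_num : 0 < 4),
    Nat.div_eq_of_lt ha, Nat.zero_add]

/-- The matrix of a packed matrix. -/
def toMat (c : Nat) : Matrix Idx Idx F4 := fun i j => f4Of (c / 4 ^ (4 * pos i + pos j) % 4)

/-- Prepend a row. -/
def consRow (M : Matrix Idx Idx F4) (i : Idx) (b : Nat) : Nat :=
  cons4 (f4To (M i (.inl 0))) (cons4 (f4To (M i (.inl 1))) (cons4 (f4To (M i (.inr 0)))
    (cons4 (f4To (M i (.inr 1))) b)))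

/-- A matrix packed. -/
def pack4 (M : Matrix Idx Idx F4) : Nat :=
  consRow M (.inl 0) (consRow M (.inl 1) (consRow M (.inr 0) (consRow M (.inr 1) 0)))

theorem toMat_pack4 (M : Matrix Idx Idx F4) : toMat (pack4 M) = M := by
  funext i j
  conv_rhs => rw [← f4Of_to (M i j)]
  show f4Of _ = f4Of _
  congr 1
  rcases i with i | i <;> rcases j with j | j <;> fin_cases i <;> fin_cases j <;>
    simp only [pack4, consRow, pos, Nat.reduceAdd, Nat.reduceMul, cons4_succ, cons4_zero, f4To_lt,
      pow_zero, Nat.div_one] <;> rfl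

/-- A product of packed matrices. -/
noncomputable def runK (Ms : List Nat) : Nat :=
  List.rec (pack4 1) (fun M _ ih => force ih fun c => pack4 (toMat M * toMat c)) Ms

theorem toMat_runK (Ms : List Nat) : toMat (runK Ms) = (Ms.map toMat).prod := by
  induction Ms with
  | nil => exact toMat_pack4 1
  | cons M t ih =>
    have h : runK (M :: t) = pack4 (toMat M * toMat (runK t)) := by simp [runK]
    rw [h, toMat_pack4, ih, List.map_cons, List.prod_cons]

theorem prod_eq_one {Ms : List Nat} (h : Nat.beq (runK Ms) (pack4 1) = true) :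
    (Ms.map toMat).prod = 1 := by
  rw [← toMat_runK, Nat.eq_of_beq_eq_true h, toMat_pack4]

end Cfsg.Agent.CosetCert.Sp44
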