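import Cfsg.Agent.CosetCert.Sp44.Bot.Main
import Cfsg.Agent.CosetCert.Sp44.Collapse.Main
import Cfsg.Agent.CosetCert.Sp44.Orbits
import Cfsg.Agent.CosetCert.Sp44.Table.Main
import Cfsg.Agent.CosetCert.Sp44.Top.Main
import Cfsg.Agent.CosetCert.Simple

/-! Generated: the presented group is simple of order 979200. -/

set_option Elab.async false

namespace Cfsg.Agent.CosetCert.Sp44

abbrev P : Type := PresentedGroup (wordRels Table.relWords)

theorem rels_one : ∀ l ∈ Table.relWords,
    PresentedGroup.mk (wordRels Table.relWords) (FreeGroup.mk l) = 1 :=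
  Table.spells.rels_one

/-- The first four generators. -/
def ren4 : Fin 4 → Fin 5 := Fin.castSucc

theorem card_bound : Finite P ∧ Nat.card P ≤ 979200 := by
  have h0 := letterSub_nil_card (wordRels Table.relWords)
  have h1 := letterSub_card_le ren4 (List.finRange 4) ([] : List (Fin 4)) [] rfl List.mem_finRange
    (fun l hl => rels_one _ (by
      have h : (Bot.relWords.all fun l => decide (l.map (fun a => (ren4 a.1, a.2)) ∈
          Table.relWords)) = true := by decide +kernel
      exact of_decide_eq_true (List.all_eq_true.1 h l hl)))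
    Bot.index_bound h0
  obtain ⟨hf, hc⟩ := card_le_top ([0, 1, 2, 3] : List (Fin 5)) rfl Top.index_bound h1
  exact ⟨hf, hc.trans (by decide +kernel)⟩

theorem close_normal : ∀ M : Subgroup P, M.Normal →
    PresentedGroup.mk (wordRels Table.relWords) (FreeGroup.mk [((1 : Fin 5), true), ((3 : Fin 5), true), ((0 : Fin 5), true), ((2 : Fin 5), true), ((4 : Fin 5), true)]) ∈ M → M = ⊤ := by
  intro M hM hz
  have hcheck : (Collapse.relWords.all fun l => decide ((l.map fun a => (id a.1, a.2)) ∈
      [((1 : Fin 5), true), ((3 : Fin 5), true), ((0 : Fin 5), true), ((2 : Fin 5), true), ((4 : Fin 5), true)] :: Table.relWords)) = true := by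
    decide +kernel
  refine Data.normal_eq_top_of_mem Collapse.log_valid Collapse.spells rfl rfl id
    Function.surjective_id _ (fun l hl => ?_) M hM hz
  rcases List.mem_cons.1 (of_decide_eq_true (List.all_eq_true.1 hcheck l hl)) with h | h
  · exact Or.inr h
  · exact Or.inl (rels_one _ h)

noncomputable def suborbitList : List Data.Orb :=
  [⟨orbSet0, 1, get48 orbStore0⟩, ⟨orbSet1, 6, get48 orbStore1⟩]

theorem suborbits : Data.Suborbits Table.data suborbitList where
  ok := by
    simp only [suborbitList, List.forall_mem_cons, List.not_mem_nil, false_imp_iff, implies_true,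
      and_true]
    exact ⟨⟨⟨by decide +kernel, by decide +kernel⟩, orb0_ok⟩, ⟨⟨by decide +kernel, by decide +kernel⟩, orb1_ok⟩⟩
  cover := by
    intro c hc
    have h : allFrom (fun c => Nat.beq c 0 || suborbitList.any fun o => o.set.testBit c) 0 85 = true := by
      decide +kernel
    rcases Bool.or_eq_true_iff.1 ((allFrom_iff _ _ _).1 h c (Nat.zero_le _) (by rw [Nat.zero_add]; exact hc)) with h | h
    · exact Or.inl (Nat.eq_of_beq_eq_true h)
    · exact Or.inr (List.any_eq_true.1 h)
  arith := by
    have h : ((Data.unions suborbitList).all fun u => decide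
        (Data.count u 85 ∣ 85 → Data.count u 85 = 1 ∨ Data.count u 85 = 85)) = true := by
      decide +kernel
    exact fun u hu => of_decide_eq_true (List.all_eq_true.1 h u hu)

noncomputable def levels : List Data.Level := [level0, level1, level2, level3]

theorem levels_ok : Table.data.LevelsOK [] levels :=
  ⟨⟨by decide +kernel, gens0_ok, pts0_ok⟩, ⟨by decide +kernel, gens1_ok, pts1_ok⟩, ⟨by decide +kernel, gens2_ok, pts2_ok⟩, ⟨by decide +kernel, gens3_ok, pts3_ok⟩, trivial⟩

/-- The word whose normal closure is everything. -/
def closeWord : List (Fin 5 × Bool) := [((1 : Fin 5), true), ((3 : Fin 5), true), ((0 : Fin 5), true), ((2 : Fin 5), true), ((4 : Fin 5), true)]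

theorem order_and_simple : IsSimpleGroup P ∧ Nat.card P = 979200 :=
  Data.isSimpleGroup_of_cert Table.valid Table.spells (N := 979200)
    card_bound.1 card_bound.2 levels levels_ok (by decide +kernel)
    suborbitList suborbits 17 1 (by norm_num) (by decide +kernel) (by decide +kernel)
    (by decide +kernel) closeWord 17 (by decide +kernel)
    (fun c hc => Nat.eq_of_beq_eq_true ((allFrom_iff
      (fun c => Nat.beq (Table.data.fwd (((List.replicate 17 closeWord).flatten).map
        (Data.code Table.data.iv Table.enc)) c) c) 0 85).1 (by decide +kernel) c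
      (Nat.zero_le _) (by rw [Nat.zero_add]; exact hc)))
    close_normal

end Cfsg.Agent.CosetCert.Sp44
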