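import Cfsg.Agent.Classical.SympGroup
import Cfsg.Agent.CosetCert.Sp44.Mat
import Cfsg.Agent.CosetCert.Sp44.Simple

/-!
The presented group of order 979200 is the symplectic group of degree four over the field
with four elements.
-/

set_option Elab.async false

namespace Cfsg.Agent.CosetCert.Sp44

open Matrix Cfsg.Agent.ThreeTrans.SU32

/-- The images of the generators. -/
def mats : List Nat := [17043520, 1208026128, 4185382255, 2884631530, 29791040]

theorem mats_mem : ∀ b : Fin 5,
    toMat (mats.getD b.val 0) * Matrix.J (Fin 2) F4 * (toMat (mats.getD b.val 0))ᵀ =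
      Matrix.J (Fin 2) F4 := by
  decide +kernel

theorem mats_square : ∀ b : Fin 5, toMat (mats.getD b.val 0) * toMat (mats.getD b.val 0) = 1 := by
  decide +kernel

theorem mats_relators : (Table.relWords.all fun l =>
    Nat.beq (runK (l.map fun a => mats.getD a.1.val 0)) (pack4 1)) = true := by
  decide +kernel

/-- The image of a generator. -/
def img (b : Fin 5) : Matrix.symplecticGroup (Fin 2) F4 :=
  ⟨toMat (mats.getD b.val 0), mats_mem b⟩

theorem img_inv (b : Fin 5) : (img b)⁻¹ = img b :=
  inv_eq_of_mul_eq_one_right (Subtype.ext (mats_square b))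

theorem lift_img_val (l : List (Fin 5 × Bool)) :
    ((FreeGroup.lift img (FreeGroup.mk l) : Matrix.symplecticGroup (Fin 2) F4) :
      Matrix Idx Idx F4) = ((l.map fun a => mats.getD a.1.val 0).map toMat).prod := by
  induction l with
  | nil => rfl
  | cons a t ih =>
    have hsplit : FreeGroup.mk (a :: t) = FreeGroup.mk [a] * FreeGroup.mk t := by
      rw [FreeGroup.mul_mk]; rfl
    rw [hsplit, _root_.map_mul, List.map_cons, List.map_cons, List.prod_cons, ← ih, Submonoid.coe_mul]
    congr 1
    obtain ⟨b, _ | _⟩ := a
    · simp only [FreeGroup.lift_mk, List.map_cons, List.map_nil, List.prod_cons, List.prod_nil,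
        mul_one, img_inv]
      rfl
    · simp only [FreeGroup.lift_mk, List.map_cons, List.map_nil, List.prod_cons, List.prod_nil,
        mul_one]
      rfl

theorem exists_iso : Nonempty (P ≃* Matrix.symplecticGroup (Fin 2) F4) := by
  have hr : ∀ r ∈ wordRels Table.relWords, FreeGroup.lift img r = 1 := by
    intro r hr
    obtain ⟨l, hl, rfl⟩ := List.mem_map.1 hr
    apply Subtype.ext
    rw [lift_img_val]
    exact prod_eq_one (List.all_eq_true.1 mats_relators l hl)
  let χ : P →* Matrix.symplecticGroup (Fin 2) F4 := PresentedGroup.toGroup hr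
  have hs := order_and_simple.1
  have hinj : Function.Injective χ := by
    rw [← MonoidHom.ker_eq_bot_iff]
    rcases hs.eq_bot_or_eq_top_of_normal χ.ker inferInstance with h | h
    · exact h
    · exfalso
      have h1 : χ (PresentedGroup.of 0) = 1 := MonoidHom.mem_ker.1 (h ▸ Subgroup.mem_top _)
      rw [PresentedGroup.toGroup.of] at h1
      have h2 : toMat (mats.getD 0 0) = 1 := congrArg Subtype.val h1
      revert h2
      decide +kernel
  have hcard : Nat.card (Matrix.symplecticGroup (Fin 2) F4) = 979200 := by
    rw [Classical.card_symplecticGroup F4.card_eq 2]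
    decide +kernel
  have : Finite P := card_bound.1
  exact ⟨MulEquiv.ofBijective χ ((Nat.bijective_iff_injective_and_card χ).2
    ⟨hinj, order_and_simple.2.trans hcard.symm⟩)⟩

end Cfsg.Agent.CosetCert.Sp44
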