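import Cfsg.Agent.CosetCert.HeOrder.Main
import Cfsg.Agent.CosetCert.Sp44.Iso

/-!
The symplectic group of degree four over the field with four elements inside the presented
Held group, fixing the base point of the table of degree 2058.
-/

set_option Elab.async false

namespace Cfsg.Agent.CosetCert

open Data in
/-- In a valid table the words fixing the base point are those of the subgroup. -/
theorem Data.apply_base_iff {β : Type*} [DecidableEq β] {D : Data} {rels : Set (FreeGroup β)}
    {Sg : List (FreeGroup β)} {enc : β → Nat} {dec : Nat → β × Bool} {RL : List (List (β × Bool))}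
    (h : D.Valid) (S : Spells D rels Sg enc dec RL)
    (φ : PresentedGroup rels →* Equiv.Perm (Fin D.n))
    (π : Fin D.n ≃ PresentedGroup rels ⧸ Data.sub rels Sg)
    (hπ : ∀ g c, π (φ g c) = g • π c)
    (hfwd : ∀ (l : List (β × Bool)) (c : Fin D.n),
      (((φ (PresentedGroup.mk rels (FreeGroup.mk l)))⁻¹ c : Fin D.n) : Nat) =
        D.fwd (l.map (code D.iv enc)) c)
    (g : PresentedGroup rels) :
    φ g ⟨0, h.n_pos⟩ = ⟨0, h.n_pos⟩ ↔ g ∈ Data.sub rels Sg := by
  let c0 : Fin D.n := ⟨0, h.n_pos⟩
  have hstab : ∀ g ∈ Data.sub rels Sg, φ g c0 = c0 := by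
    intro g hg
    obtain ⟨s, hs, rfl⟩ := Subgroup.mem_map.1 hg
    induction hs using Subgroup.closure_induction with
    | mem s hs =>
      have h1 := hfwd s.toWord c0
      rw [FreeGroup.mk_toWord] at h1
      have h2 : (s.toWord.map (code D.iv enc)) ∈ D.W.drop D.nR :=
        S.drop_eq ▸ List.mem_map_of_mem hs
      rw [Nat.eq_of_beq_eq_true (List.all_eq_true.1 h.subs _ h2)] at h1
      exact (Equiv.Perm.inv_eq_iff_eq.1 (Fin.ext h1)).symm
    | one => simp
    | mul x y hx hy h1 h2 =>
      simp [h1 (Subgroup.mem_map_of_mem _ hx), h2 (Subgroup.mem_map_of_mem _ hy)]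
    | inv x hx h1 =>
      rw [map_inv, map_inv, Equiv.Perm.inv_eq_iff_eq]
      exact (h1 (Subgroup.mem_map_of_mem _ hx)).symm
  refine ⟨fun hg => ?_, hstab g⟩
  let _ : MulAction (PresentedGroup rels) (Fin D.n) := MulAction.compHom _ φ
  have hle : Data.sub rels Sg ≤ MulAction.stabilizer (PresentedGroup rels) c0 := hstab
  have horb : MulAction.orbit (PresentedGroup rels) c0 = Set.univ := by
    refine Set.eq_univ_of_forall fun c => ?_
    obtain ⟨x, hx⟩ := QuotientGroup.mk_surjective (π c0)
    obtain ⟨y, hy⟩ := QuotientGroup.mk_surjective (π c)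
    refine ⟨y * x⁻¹, π.injective ?_⟩
    show π (φ _ c0) = π c
    rw [hπ, ← hx, ← hy]
    show ((y * x⁻¹ * x : PresentedGroup rels) : PresentedGroup rels ⧸ Data.sub rels Sg) = _
    rw [inv_mul_cancel_right]
  have h1 := Subgroup.relIndex_mul_index hle
  rw [MulAction.index_stabilizer, horb, Set.ncard_univ, Nat.card_fin, Data.index_eq h S] at h1
  exact Subgroup.relIndex_eq_one.1 ((Nat.mul_eq_right (Nat.pos_iff_ne_zero.1 h.n_pos)).1 h1) hg

namespace Sp44

open Cfsg.Agent.CosetCert.Data (code)

/-- The relators of the presented Held group. -/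
abbrev HeRels : Set (FreeGroup Cfsg.Spor.He.Gen) :=
  Cfsg.Spor.coxRelators Cfsg.Spor.He.edges ∪ {r | r ∈ Cfsg.Spor.He.extra}

/-- The subgroup of index 2058. -/
abbrev heSub : Subgroup (PresentedGroup HeRels) := Data.sub HeRels HeSp44.subGens

/-- The images of the generators, as words. -/
def imgWord : Fin 5 → List (Cfsg.Spor.He.Gen × Bool)
  | ⟨0, _⟩ => [(.c, true)]
  | ⟨1, _⟩ => [(.d, true)]
  | ⟨2, _⟩ => [(.e, true)]
  | ⟨3, _⟩ => [(.f, true)]
  | ⟨4, _⟩ => [(.b, true), (.c, true), (.f, true), (.d, true), (.g, true), (.d, true), (.f, true),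
      (.c, true), (.b, true)]

/-- A word in the generators as a word in those of the Held group. -/
def expand (l : List (Fin 5 × Bool)) : List (Cfsg.Spor.He.Gen × Bool) :=
  l.flatMap fun a => if a.2 then imgWord a.1 else FreeGroup.invRev (imgWord a.1)

theorem lift_imgWord (l : List (Fin 5 × Bool)) :
    FreeGroup.lift (fun b => PresentedGroup.mk HeRels (FreeGroup.mk (imgWord b))) (FreeGroup.mk l) =
      PresentedGroup.mk HeRels (FreeGroup.mk (expand l)) := by
  induction l with
  | nil => rfl
  | cons a t ih =>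
    have hsplit : FreeGroup.mk (a :: t) = FreeGroup.mk [a] * FreeGroup.mk t := by
      rw [FreeGroup.mul_mk]; rfl
    rw [hsplit, _root_.map_mul, ih]
    show _ = PresentedGroup.mk HeRels (FreeGroup.mk
      ((if a.2 then imgWord a.1 else FreeGroup.invRev (imgWord a.1)) ++ expand t))
    rw [← FreeGroup.mul_mk, _root_.map_mul]
    congr 1
    obtain ⟨b, _ | _⟩ := a <;>
      simp [FreeGroup.lift_mk, ← FreeGroup.inv_mk]

/-- The table codes of an expanded word. -/
noncomputable def heCodes (l : List (Fin 5 × Bool)) : List Nat :=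
  (expand l).map (code HeSp44.data.iv HeSp44.enc)

theorem expanded_relators : (Table.relWords.all fun l =>
    allFrom (fun c => Nat.beq (HeSp44.data.fwd (heCodes l) c) c) 0 2058) = true := by
  decide +kernel

theorem images_fix : ∀ b : Fin 5,
    HeSp44.data.fwd ((imgWord b).map (code HeSp44.data.iv HeSp44.enc)) 0 = 0 := by
  decide +kernel

theorem first_moves : allFrom (fun c => Nat.beq (HeSp44.data.fwd [2] c) c) 0 2058 = false := by
  decide +kernel

/-- The presented group embeds in the subgroup of index 2058. -/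
theorem exists_embed : ∃ ψ : P →* PresentedGroup HeRels, Function.Injective ψ ∧ ψ.range ≤ heSub := by
  obtain ⟨φ, π, hπ, hfwd⟩ := Data.enumeration HeSp44.valid HeSp44.spells
  have hinj : Function.Injective φ :=
    (Data.order_eq HeSp44.valid HeSp44.spells φ hfwd HeOrder.card_bound.1 HeOrder.card_bound.2
      HeOrder.levels HeOrder.levels_ok (by decide +kernel)).1
  have hr : ∀ r ∈ wordRels Table.relWords,
      FreeGroup.lift (fun b => PresentedGroup.mk HeRels (FreeGroup.mk (imgWord b))) r = 1 := by
    intro r hr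
    obtain ⟨l, hl, rfl⟩ := List.mem_map.1 hr
    rw [lift_imgWord]
    apply hinj
    rw [_root_.map_one]
    apply inv_injective
    ext c
    rw [hfwd, inv_one, Equiv.Perm.one_apply]
    exact Nat.eq_of_beq_eq_true ((allFrom_iff _ _ _).1 (List.all_eq_true.1 expanded_relators l hl)
      c (Nat.zero_le _) (by rw [Nat.zero_add]; exact c.2))
  let ψ : P →* PresentedGroup HeRels := PresentedGroup.toGroup hr
  have hψ : ∀ b, ψ (PresentedGroup.of b) = PresentedGroup.mk HeRels (FreeGroup.mk (imgWord b)) :=
    fun b => PresentedGroup.toGroup.of hr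
  refine ⟨ψ, ?_, ?_⟩
  · rw [← MonoidHom.ker_eq_bot_iff]
    rcases order_and_simple.1.eq_bot_or_eq_top_of_normal ψ.ker inferInstance with h | h
    · exact h
    · exfalso
      have h1 : ψ (PresentedGroup.of 0) = 1 := MonoidHom.mem_ker.1 (h ▸ Subgroup.mem_top _)
      rw [hψ] at h1
      apply Bool.false_ne_true
      rw [← first_moves, allFrom_iff]
      intro c _ hc
      rw [Nat.zero_add] at hc
      have h2 := hfwd (imgWord 0) ⟨c, hc⟩
      rw [h1, _root_.map_one, inv_one, Equiv.Perm.one_apply] at h2
      exact (congrArg (fun x => Nat.beq x c) h2.symm).trans (Nat.beq_refl c)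
  · rw [MonoidHom.range_eq_map, ← PresentedGroup.closure_range_of, MonoidHom.map_closure,
      Subgroup.closure_le]
    rintro _ ⟨_, ⟨b, rfl⟩, rfl⟩
    rw [hψ, SetLike.mem_coe, ← Data.apply_base_iff HeSp44.valid HeSp44.spells φ π hπ hfwd]
    refine (Equiv.Perm.inv_eq_iff_eq.1 (Fin.ext ?_)).symm
    rw [hfwd]
    exact images_fix b

theorem card_heSub : Nat.card heSub = 1958400 := by
  have h := Subgroup.card_mul_index heSub
  rw [HeSp44.index_val, HeOrder.order_and_simple.2] at h
  exact Nat.eq_of_mul_eq_mul_right (by norm_num : 0 < 2058) (h.trans (by norm_num))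

/-- A map from the presented group that is injective has an image of index two in a group of
order 1958400. -/
theorem index_range {G : Type*} [Group G] (ψ : P →* G) (hψ : Function.Injective ψ)
    (hG : Nat.card G = 1958400) : ψ.range.index = 2 := by
  have h := Subgroup.card_mul_index ψ.range
  rw [← Nat.card_congr (MonoidHom.ofInjective hψ).toEquiv, order_and_simple.2, hG] at h
  omega

end Sp44

end Cfsg.Agent.CosetCert
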